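import Groth.Agent.GaGmKerLib.GaPts
import Mathlib.RingTheory.AdjoinRoot
import Mathlib.FieldTheory.Finite.Basic
import Mathlib.Algebra.CharP.Lemmas
import Mathlib.RingTheory.RingHom.FaithfullyFlat
import Mathlib.RingTheory.RingHom.Finite

/-!
# Algebra of the Artin-Schreier isogeny
-/

set_option autoImplicit false
set_option linter.style.haveILetI false
universe u

open Polynomial

noncomputable section

namespace ASExactLib

open Groth.Agent.GaPts

variable (p : ℕ) [hp : Fact p.Prime]

theorem add_pow_p {R : Type*} [CommRing R] (h : (p : R) = 0) (x y : R) : (x + y) ^ p = x ^ p + y ^ p := by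
  obtain ⟨r, hr⟩ := exists_add_pow_prime_eq hp.out x y
  rw [hr, h]; ring

theorem sub_pow_p {R : Type*} [CommRing R] (h : (p : R) = 0) (x y : R) : (x - y) ^ p = x ^ p - y ^ p := by
  have := add_pow_p p h (x - y) y
  rw [sub_add_cancel] at this
  linear_combination -this

theorem natCast_pow {R : Type*} [CommRing R] (h : (p : R) = 0) (a : ℕ) : (a : R) ^ p = (a : R) := by
  induction a with
  | zero => simp [hp.out.ne_zero]
  | succ a ih => rw [Nat.cast_succ, add_pow_p p h, ih, one_pow]

/-- The idempotent of the locus `d = c`. -/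
def idem {R : Type*} [CommRing R] (d : R) (c : ZMod p) : R := 1 - (d - (c.val : R)) ^ (p - 1)

theorem idem_mul_sub {R : Type*} [CommRing R] (h : (p : R) = 0) {d : R} (hd : d ^ p = d) (c : ZMod p) :
    idem p d c * (d - (c.val : R)) = 0 := by
  have h1 : (d - (c.val : R)) ^ p = d - (c.val : R) := by rw [sub_pow_p p h, hd, natCast_pow p h]
  rw [idem, sub_mul, one_mul, ← pow_succ, Nat.sub_add_cancel hp.out.one_lt.le, h1, sub_self]

theorem isUnit_val_sub {R : Type*} [CommRing R] (h : (p : R) = 0) {c c' : ZMod p} (hc : c ≠ c') :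
    IsUnit ((c.val : R) - (c'.val : R)) := by
  rcases subsingleton_or_nontrivial R with hR | hR
  · exact isUnit_of_subsingleton _
  haveI : CharP R p := (CharP.charP_iff_prime_eq_zero hp.out).2 h
  haveI : NeZero p := ⟨hp.out.ne_zero⟩
  have e : (c.val : R) - (c'.val : R) = ZMod.castHom (dvd_refl p) R (c - c') := by
    rw [map_sub, ← map_natCast (ZMod.castHom (dvd_refl p) R), ← map_natCast (ZMod.castHom (dvd_refl p) R),
      ZMod.natCast_zmod_val, ZMod.natCast_zmod_val]
  rw [e]
  exact (Ne.isUnit (sub_ne_zero.2 hc)).map _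

theorem idem_mul_idem {R : Type*} [CommRing R] (h : (p : R) = 0) {d : R} (hd : d ^ p = d) {c c' : ZMod p}
    (hc : c ≠ c') : idem p d c * idem p d c' = 0 := by
  refine (isUnit_val_sub p h hc).mul_left_eq_zero.1 ?_
  linear_combination idem p d c * idem_mul_sub p h hd c' - idem p d c' * idem_mul_sub p h hd c

theorem exists_isUnit_idem {R : Type*} [CommRing R] [IsLocalRing R] (h : (p : R) = 0) {d : R} (hd : d ^ p = d) :
    ∃ c, IsUnit (idem p d c) := by
  classical
  haveI : NeZero p := ⟨hp.out.ne_zero⟩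
  let κ := IsLocalRing.ResidueField R
  haveI : CharP κ p := (CharP.charP_iff_prime_eq_zero hp.out).2 (by
    rw [← map_natCast (IsLocalRing.residue R), h, map_zero])
  let cκ : ZMod p →+* κ := ZMod.castHom (dvd_refl p) κ
  let G : Polynomial κ := X ^ p - X
  have hG : G ≠ 0 := (monic_X_pow_sub (p := (X : Polynomial κ)) (lt_of_le_of_lt degree_X_le
    (by exact_mod_cast hp.out.one_lt))).ne_zero
  have hsub : Finset.univ.image cκ ⊆ G.roots.toFinset := by
    intro z hz
    obtain ⟨j, -, rfl⟩ := Finset.mem_image.1 hz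
    rw [Multiset.mem_toFinset, mem_roots hG]
    simp [G, ← map_pow]
  have heq := Finset.eq_of_subset_of_card_le hsub (by
    rw [Finset.card_image_of_injective _ cκ.injective, Finset.card_univ, ZMod.card]
    refine (Multiset.toFinset_card_le _).trans ((card_roots' G).trans ?_)
    exact (natDegree_sub_le _ _).trans (by simp [hp.out.one_lt.le]))
  have hmem : IsLocalRing.residue R d ∈ G.roots.toFinset := by
    rw [Multiset.mem_toFinset, mem_roots hG]
    simp [G, ← map_pow, hd]
  rw [← heq, Finset.mem_image] at hmem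
  obtain ⟨c, -, hc⟩ := hmem
  refine ⟨c, (IsLocalRing.residue_ne_zero_iff_isUnit _).1 ?_⟩
  have hval : IsLocalRing.residue R (c.val : R) = cκ c := by
    rw [map_natCast, ← map_natCast cκ, ZMod.natCast_zmod_val]
  rw [idem, map_sub, map_one, map_pow, map_sub, hval, hc, sub_self, zero_pow (by have := hp.out.one_lt; omega), sub_zero]
  exact one_ne_zero

/-- The endomorphism `z ↦ z - z ^ p` of the coordinate ring. -/
def θ : Coord.{u} →+* Coord.{u} := ringHomOf (z₀ - z₀ ^ p)

theorem θ_faithfullyFlat : (θ.{u} p).FaithfullyFlat ∧ (θ.{u} p).Finite := by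
  classical
  haveI : Nontrivial Coord.{u} := (ringHomOf (0 : ULift.{u} ℤ)).domain_nontrivial
  let f : Polynomial Coord.{u} := Polynomial.X ^ p - Polynomial.X + Polynomial.C z₀
  have hm : f.Monic := by
    rw [show f = Polynomial.X ^ p - (Polynomial.X - Polynomial.C z₀) by simp only [f]; ring]
    refine monic_X_pow_sub (lt_of_le_of_lt (degree_sub_le _ _) (max_lt
      (lt_of_le_of_lt degree_X_le (by exact_mod_cast hp.out.one_lt))
      (lt_of_le_of_lt degree_C_le (by exact_mod_cast hp.out.pos))))
  have hev : Polynomial.eval₂ (θ p) z₀ f = 0 := by simp [f, θ, ringHomOf_z₀]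
  let ev : AdjoinRoot f →+* Coord.{u} := AdjoinRoot.lift (θ p) z₀ hev
  let bk : Coord.{u} →+* AdjoinRoot f := ringHomOf (AdjoinRoot.root f)
  have hroot : AdjoinRoot.root f ^ p - AdjoinRoot.root f + AdjoinRoot.of f z₀ = 0 := by
    have := AdjoinRoot.eval₂_root f
    simpa [f] using this
  have h1 : bk.comp ev = RingHom.id _ := by
    refine Ideal.Quotient.ringHom_ext (Polynomial.ringHom_ext' (ringHom_ext ?_) ?_)
    · show bk (ev (AdjoinRoot.of f z₀)) = AdjoinRoot.of f z₀
      simp only [ev, bk, AdjoinRoot.lift_of, θ, ringHomOf_z₀, map_sub, map_pow]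
      linear_combination -hroot
    · show bk (ev (AdjoinRoot.root f)) = AdjoinRoot.root f
      simp only [ev, bk, AdjoinRoot.lift_root, ringHomOf_z₀]
  have h2 : ev.comp bk = RingHom.id _ := ringHom_ext (by
    simp [ev, bk, ringHomOf_z₀])
  let eqv : AdjoinRoot f ≃+* Coord.{u} := RingEquiv.ofRingHom ev bk h2 h1
  have hθ : θ p = (eqv : AdjoinRoot f →+* Coord.{u}).comp (algebraMap Coord.{u} (AdjoinRoot f)) :=
    RingHom.ext fun a => (AdjoinRoot.lift_of (h := hev)).symm
  haveI : Module.Free Coord.{u} (AdjoinRoot f) := Module.Free.of_basis (AdjoinRoot.powerBasis' hm).basis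
  haveI : Module.Finite Coord.{u} (AdjoinRoot f) := Module.Finite.of_basis (AdjoinRoot.powerBasis' hm).basis
  haveI : Nontrivial (AdjoinRoot f) := eqv.toEquiv.nontrivial
  haveI : Module.FaithfullyFlat Coord.{u} (AdjoinRoot f) := inferInstance
  have hff : (algebraMap Coord.{u} (AdjoinRoot f)).FaithfullyFlat := RingHom.faithfullyFlat_algebraMap_iff.2 inferInstance
  have hfi : (algebraMap Coord.{u} (AdjoinRoot f)).Finite := RingHom.finite_algebraMap.2 inferInstance
  rw [hθ]
  exact ⟨RingHom.FaithfullyFlat.stableUnderComposition _ _ hff (RingHom.FaithfullyFlat.of_bijective eqv.bijective),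
    RingHom.Finite.comp (RingHom.Finite.of_surjective _ eqv.surjective) hfi⟩

end ASExactLib
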