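import Groth.Agent.ASExactLib.Algebra
import Groth.Agent.ExtDescLib.Const
import Groth.Prelude.Def_NonAbH2

/-!
# The Artin-Schreier sequence
-/

set_option autoImplicit false
set_option linter.style.haveILetI false
set_option backward.isDefEq.respectTransparency false
set_option maxHeartbeats 1000000
set_option synthInstance.maxHeartbeats 200000

universe u

open CategoryTheory CategoryTheory.Limits MonoidalCategory CartesianMonoidalCategory AlgebraicGeometry MonObj GrpObj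
open Groth.Agent

noncomputable section

namespace ASExactLib

/-- Global functions agreeing on an open cover are equal. -/
theorem eq_of_ι {X : Scheme.{u}} {J : Type*} (U : J → X.Opens) (hU : ∀ x : X, ∃ j, x ∈ U j) (a b : Γ(X, ⊤))
    (h : ∀ j, (U j).ι.appTop a = (U j).ι.appTop b) : a = b := by
  refine X.sheaf.eq_of_locally_eq' U ⊤ (fun j => homOfLE le_top)
    (fun x _ => TopologicalSpace.Opens.mem_iSup.2 (hU x)) a b fun j => ?_
  have h1 := congrArg (U j).topIso.hom (h j)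
  simp only [Scheme.Opens.ι_appTop, ← ConcreteCategory.comp_apply] at h1
  simp [Scheme.Opens.topIso_hom, ← Functor.map_comp] at h1
  exact h1

theorem isUnit_ι_basicOpen {X : Scheme.{u}} (f : Γ(X, ⊤)) : IsUnit ((X.basicOpen f).ι.appTop f) := by
  have e : (X.basicOpen f).topIso.hom ((X.basicOpen f).ι.appTop f) =
      X.presheaf.map (homOfLE (le_top : X.basicOpen f ≤ ⊤)).op f := by
    simp only [Scheme.Opens.ι_appTop, ← ConcreteCategory.comp_apply]
    simp [Scheme.Opens.topIso_hom, ← Functor.map_comp]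
  have h : IsUnit ((X.basicOpen f).topIso.hom ((X.basicOpen f).ι.appTop f)) :=
    e ▸ RingedSpace.isUnit_res_basicOpen X.toLocallyRingedSpace.toRingedSpace f
  have h2 := h.map (X.basicOpen f).topIso.inv.hom
  rwa [← ConcreteCategory.comp_apply, Iso.hom_inv_id, ConcreteCategory.id_apply] at h2

variable (p : ℕ) [hp : Fact p.Prime] {S : Scheme.{u}}

theorem natCast_eq_zero (hpS : (p : Γ(S, ⊤)) = 0) {T : Scheme.{u}} (g : T ⟶ S) (U : T.Opens) : (p : Γ(T, U)) = 0 := by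
  have h1 : g.appTop (p : Γ(S, ⊤)) = (p : Γ(T, ⊤)) := map_natCast g.appTop.hom p
  rw [hpS, map_zero] at h1
  have h2 := map_natCast (T.presheaf.map (homOfLE (le_top : U ≤ ⊤)).op).hom p
  rw [← h1, map_zero] at h2
  exact h2.symm

variable {F : Red.Ga S ⟶ Red.Ga S} (hF : ∀ (T : Over S) (x : T ⟶ Red.Ga S), Red.gaFn (x ≫ F) = Red.gaFn x ^ p)

omit hp in
include hF in
theorem gaFn_v {T : Over S} (x : T ⟶ Red.Ga S) :
    Red.gaFn (x ≫ (𝟙 (Red.Ga S) * F⁻¹)) = Red.gaFn x - Red.gaFn x ^ p := by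
  rw [MonObj.comp_mul, GrpObj.comp_inv, Category.comp_id, GaPts.gaFn_mul]
  have h := GaPts.gaFn_mul (x ≫ F) (x ≫ F)⁻¹
  rw [mul_inv_cancel, GaPts.gaFn_one, hF] at h
  linear_combination -h

theorem left_point_eq {T : Over S} (g : T ⟶ Red.Ga S) :
    g.left ≫ pullback.fst Red.GaZ.hom (GaPts.toBaseZ S) = GaPts.specPt g := rfl

variable (hpS : (p : Γ(S, ⊤)) = 0)
include hF hpS

theorem isMonHom_v : IsMonHom (𝟙 (Red.Ga S) * F⁻¹) where
  one_hom := by
    refine GaPts.gaFn_injective ?_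
    show Red.gaFn ((η[Red.Ga S] : 𝟙_ (Over S) ⟶ _) ≫ _) = Red.gaFn (η[Red.Ga S] : 𝟙_ (Over S) ⟶ _)
    rw [MonObj.one_eq_one, gaFn_v p hF, GaPts.gaFn_one, zero_pow hp.out.ne_zero, sub_self]
  mul_hom := by
    refine GaPts.gaFn_injective ?_
    show Red.gaFn (μ[Red.Ga S] ≫ _) = Red.gaFn ((_ ⊗ₘ _) ≫ μ[Red.Ga S])
    rw [MonObj.mul_eq_mul, gaFn_v p hF, GaPts.gaFn_mul, MonObj.comp_mul, GaPts.gaFn_mul, tensorHom_fst, tensorHom_snd,
      gaFn_v p hF, gaFn_v p hF,
      add_pow_p p (natCast_eq_zero p hpS (Red.Ga S ⊗ Red.Ga S).hom ⊤)]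
    ring

/-- The flat surjective quasi-compact map. -/
theorem props_v : Flat (𝟙 (Red.Ga S) * F⁻¹ : Red.Ga S ⟶ Red.Ga S).left ∧
    Surjective (𝟙 (Red.Ga S) * F⁻¹ : Red.Ga S ⟶ Red.Ga S).left ∧
    QuasiCompact (𝟙 (Red.Ga S) * F⁻¹ : Red.Ga S ⟶ Red.Ga S).left := by
  let v : Red.Ga S ⟶ Red.Ga S := 𝟙 (Red.Ga S) * F⁻¹
  obtain ⟨hff, hfin⟩ := θ_faithfullyFlat.{u} p
  obtain ⟨h1, h2⟩ := RingHom.FaithfullyFlat.iff_flat_and_comap_surjective.1 hff
  let g : Spec (CommRingCat.of GaPts.Coord.{u}) ⟶ Spec (CommRingCat.of GaPts.Coord.{u}) :=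
    Spec.map (CommRingCat.ofHom (θ.{u} p))
  have gflat : Flat g := (HasRingHomProperty.Spec_iff (P := @Flat)).2 h1
  have gsurj : Surjective g := ⟨h2⟩
  have gqc : QuasiCompact g := inferInstance
  haveI : IsAffine Red.GaZ.{u}.left := inferInstanceAs (IsAffine (Spec (CommRingCat.of GaPts.Coord.{u})))
  have e1 : v.left ≫ pullback.fst Red.GaZ.hom (GaPts.toBaseZ S) =
      pullback.fst Red.GaZ.hom (GaPts.toBaseZ S) ≫ g := by
    refine ext_of_isAffine ?_
    rw [← cancel_epi GaPts.coordIso.inv]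
    refine CommRingCat.hom_ext (GaPts.ringHom_ext ?_)
    show Red.gaFn v = ((pullback.fst Red.GaZ.hom (GaPts.toBaseZ S) ≫ g).appTop) (GaPts.coordIso.inv GaPts.z₀)
    rw [show v = 𝟙 (Red.Ga S) ≫ v from (Category.id_comp v).symm, gaFn_v p hF, GmPts.appTop_comp_apply]
    refine Eq.trans ?_ (congrArg (pullback.fst Red.GaZ.hom (GaPts.toBaseZ S)).appTop
      (GaPts.specMap_appTop_coordIso_inv (CommRingCat.ofHom (θ.{u} p)) GaPts.z₀).symm)
    show _ = (pullback.fst Red.GaZ.hom (GaPts.toBaseZ S)).appTop ((Scheme.ΓSpecIso _).inv (θ p GaPts.z₀))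
    rw [θ, GaPts.ringHomOf_z₀, map_sub, map_sub, map_pow, map_pow]
    have e3 : Red.gaFn (𝟙 (Red.Ga S)) =
        (pullback.fst Red.GaZ.hom (GaPts.toBaseZ S)).appTop (GaPts.coordIso.inv GaPts.z₀) := by
      show ((𝟙 (Red.Ga S) : Red.Ga S ⟶ _).left ≫ pullback.fst _ _).appTop Red.gaCoord = _
      rw [Over.id_left, Category.id_comp]
      rfl
    rw [e3]
  have hgZ : g ≫ Red.GaZ.hom = Red.GaZ.hom := specULiftZIsTerminal.hom_ext _ _
  have h2' : v.left ≫ pullback.snd Red.GaZ.hom (GaPts.toBaseZ S) = pullback.snd Red.GaZ.hom (GaPts.toBaseZ S) :=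
    Over.w v
  have sq : IsPullback (pullback.fst Red.GaZ.hom (GaPts.toBaseZ S)) v.left g
      (pullback.fst Red.GaZ.hom (GaPts.toBaseZ S)) := by
    refine IsPullback.of_bot ?_ e1.symm (IsPullback.of_hasPullback Red.GaZ.hom (GaPts.toBaseZ S))
    rw [h2', hgZ]
    exact IsPullback.of_hasPullback _ _
  exact ⟨MorphismProperty.of_isPullback sq gflat, MorphismProperty.of_isPullback sq gsurj,
    MorphismProperty.of_isPullback sq gqc⟩

omit hF hpS
variable {G : Over S} [GrpObj G] {M : Type u} (eG : G ≅ TwC.const S M)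

omit hp in
theorem gaFn_restrict {T : Over S} (U : T.left.Opens) (x : T ⟶ Red.Ga S) :
    Red.gaFn ((Over.homMk U.ι rfl : Over.mk (U.ι ≫ T.hom) ⟶ T) ≫ x) = U.ι.appTop (Red.gaFn x) :=
  GaPts.gaFn_comp _ x

theorem isExactSeq_fpqc (hp0 : (p : Γ(S, ⊤)) = 0)
    (hF : ∀ (T : Over S) (x : T ⟶ Red.Ga S), Red.gaFn (x ≫ F) = Red.gaFn x ^ p)
    (cM : M ≃ ZMod p) (i : G ⟶ Red.Ga S) [IsMonHom i]
    (hi : ∀ m, Red.gaFn (ExtDescLib.piece eG m ≫ i) = (((cM m).val : ℕ) : Γ((𝟙_ (Over S)).left, ⊤))) :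
    NonAbH1.IsExactSeq Scheme.fpqcPrecoverage i (𝟙 (Red.Ga S) * F⁻¹) := by
  classical
  haveI : NeZero p := ⟨hp.out.ne_zero⟩
  have hchar : ∀ (T : Over S) (U : T.left.Opens), (p : Γ(T.left, U)) = 0 := fun T U => natCast_eq_zero p hp0 T.hom U
  -- the value on a piece
  have hval : ∀ {T : Over S} (m : M), Red.gaFn ((toUnit T ≫ ExtDescLib.piece eG m) ≫ i) =
      (((cM m).val : ℕ) : Γ(T.left, ⊤)) := fun {T} m => by
    rw [Category.assoc, GaPts.gaFn_comp, hi, map_natCast]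
  -- every point is piecewise constant
  have hloc : ∀ {T : Over S} (z : T ⟶ G) (x : T.left), ∃ (U : T.left.Opens) (m : M), x ∈ U ∧
      (Over.homMk U.ι rfl : Over.mk (U.ι ≫ T.hom) ⟶ T) ≫ z =
        toUnit (Over.mk (U.ι ≫ T.hom)) ≫ ExtDescLib.piece eG m := fun {T} z x => by
    obtain ⟨m, hm⟩ := ExtDescLib.exists_piece eG (z.left.base x)
    refine ⟨z.left ⁻¹ᵁ (ExtDescLib.piece eG m).left.opensRange, m, hm,
      ExtDescLib.eq_piece eG _ m ?_⟩
    rintro _ ⟨w, rfl⟩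
    exact w.2
  have hker : ∀ {T : Over S} (z : T ⟶ G), Red.gaFn (z ≫ i) ^ p = Red.gaFn (z ≫ i) := fun {T} z => by
    refine eq_of_ι (fun x : T.left => (hloc z x).choose) (fun x => ⟨x, (hloc z x).choose_spec.choose_spec.1⟩) _ _
      fun x => ?_
    obtain ⟨m, -, he⟩ := (hloc z x).choose_spec
    rw [map_pow, ← gaFn_restrict _ (z ≫ i), ← Category.assoc, he, hval, natCast_pow p (hchar _ _)]
  have hiv : i ≫ (𝟙 (Red.Ga S) * F⁻¹) = 1 := by
    refine GaPts.gaFn_injective ?_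
    show Red.gaFn (i ≫ _) = Red.gaFn (1 : G ⟶ Red.Ga S)
    rw [gaFn_v p hF, GaPts.gaFn_one]
    have := hker (𝟙 G)
    rw [Category.id_comp] at this
    rw [this, sub_self]
  -- uniqueness
  have huniq : ∀ {T : Over S} (z z' : T ⟶ G), Red.gaFn (z ≫ i) = Red.gaFn (z' ≫ i) → z = z' := fun {T} z z' h => by
    refine Over.OverMorphism.ext (Scheme.Cover.hom_ext (T.left.openCoverOfIsOpenCover
      (fun x : T.left => (hloc z x).choose ⊓ (hloc z' x).choose) (TopologicalSpace.IsOpenCover.mk (top_le_iff.1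
        fun x _ => TopologicalSpace.Opens.mem_iSup.2
          ⟨x, (hloc z x).choose_spec.choose_spec.1, (hloc z' x).choose_spec.choose_spec.1⟩))) _ _ fun x => ?_)
    obtain ⟨m, hx, he⟩ := (hloc z x).choose_spec
    obtain ⟨m', hx', he'⟩ := (hloc z' x).choose_spec
    let U := (hloc z x).choose ⊓ (hloc z' x).choose
    let j : Over.mk (U.ι ≫ T.hom) ⟶ T := Over.homMk U.ι rfl
    let a : Over.mk (U.ι ≫ T.hom) ⟶ Over.mk ((hloc z x).choose.ι ≫ T.hom) :=
      Over.homMk (T.left.homOfLE inf_le_left) (by simp)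
    let a' : Over.mk (U.ι ≫ T.hom) ⟶ Over.mk ((hloc z' x).choose.ι ≫ T.hom) :=
      Over.homMk (T.left.homOfLE inf_le_right) (by simp)
    have hz : j ≫ z = toUnit _ ≫ ExtDescLib.piece eG m := by
      rw [show j = a ≫ Over.homMk (hloc z x).choose.ι rfl from
        Over.OverMorphism.ext (by simp [j, a, U]), Category.assoc, he, ← Category.assoc, comp_toUnit]
    have hz' : j ≫ z' = toUnit _ ≫ ExtDescLib.piece eG m' := by
      rw [show j = a' ≫ Over.homMk (hloc z' x).choose.ι rfl from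
        Over.OverMorphism.ext (by simp [j, a', U]), Category.assoc, he', ← Category.assoc, comp_toUnit]
    have hmm : m = m' := by
      refine cM.injective ?_
      by_contra hne
      haveI : Nonempty (Over.mk (U.ι ≫ T.hom)).left := ⟨⟨x, hx, hx'⟩⟩
      have h1 : Red.gaFn ((j ≫ z) ≫ i) = Red.gaFn ((j ≫ z') ≫ i) := by
        rw [Category.assoc, Category.assoc]
        exact (GaPts.gaFn_comp j (z ≫ i)).trans ((congrArg j.left.appTop h).trans (GaPts.gaFn_comp j (z' ≫ i)).symm)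
      haveI : Nonempty ↥(⊤ : (Over.mk (U.ι ≫ T.hom)).left.Opens) := ⟨⟨⟨x, hx, hx'⟩, trivial⟩⟩
      rw [hz, hz', hval, hval] at h1
      exact not_isUnit_zero (sub_eq_zero.2 h1 ▸ isUnit_val_sub p (hchar _ ⊤) hne)
    have hres : (j ≫ z).left = (j ≫ z').left := by rw [hz, hz', hmm]
    simpa [j] using hres
  -- existence
  have hexi : ∀ {T : Over S} (d : Γ(T.left, ⊤)), d ^ p = d → ∃ z : T ⟶ G, Red.gaFn (z ≫ i) = d := fun {T} d hd => by
    let U : ZMod p → T.left.Opens := fun c => T.left.basicOpen (idem p d c)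
    have hU : TopologicalSpace.IsOpenCover U := TopologicalSpace.IsOpenCover.mk (top_le_iff.1 fun x _ => by
      let ge : Γ(T.left, ⊤) →+* T.left.presheaf.stalk x := (T.left.presheaf.germ ⊤ x trivial).hom
      obtain ⟨c, hc⟩ := exists_isUnit_idem p (R := T.left.presheaf.stalk x)
        (by rw [← map_natCast ge, hchar T ⊤, map_zero]) (d := ge d) (by rw [← map_pow, hd])
      refine TopologicalSpace.Opens.mem_iSup.2 ⟨c, (T.left.mem_basicOpen_top _ x).2 ?_⟩
      have : ge (idem p d c) = idem p (ge d) c := by simp only [idem, map_sub, map_one, map_pow, map_natCast]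
      rw [← this] at hc
      exact hc)
    let 𝒰 := T.left.openCoverOfIsOpenCover U hU
    have hdisj : ∀ c c', c ≠ c' → IsEmpty ↥(pullback (𝒰.f c) (𝒰.f c')) := fun c c' hne => ⟨fun w => by
      have h1 : (pullback.fst (𝒰.f c) (𝒰.f c') ≫ (U c).ι) w ∈ U c ⊓ U c' := by
        refine ⟨(pullback.fst (𝒰.f c) (𝒰.f c') w).2, ?_⟩
        rw [show pullback.fst (𝒰.f c) (𝒰.f c') ≫ (U c).ι = pullback.snd (𝒰.f c) (𝒰.f c') ≫ (U c').ι from pullback.condition]
        exact (pullback.snd (𝒰.f c) (𝒰.f c') w).2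
      rw [show U c ⊓ U c' = ⊥ by
        simp only [U, ← Scheme.basicOpen_mul, idem_mul_idem p (hchar T ⊤) hd hne, Scheme.basicOpen_zero]] at h1
      exact h1.elim⟩
    let g : ∀ c, Over.mk ((U c).ι ≫ T.hom) ⟶ G := fun c => toUnit _ ≫ ExtDescLib.piece eG (cM.symm c)
    have hg : ∀ c c', pullback.fst (𝒰.f c) (𝒰.f c') ≫ (g c).left = pullback.snd (𝒰.f c) (𝒰.f c') ≫ (g c').left := by
      intro c c'
      by_cases hcc : c = c'
      · subst hcc
        rw [show pullback.fst (𝒰.f c) (𝒰.f c) = pullback.snd (𝒰.f c) (𝒰.f c) from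
          (cancel_mono (𝒰.f c)).1 pullback.condition]
      · haveI := hdisj c c' hcc
        exact isInitialOfIsEmpty.hom_ext _ _
    let zl : T.left ⟶ G.left := 𝒰.glueMorphisms (fun c => (g c).left) hg
    have hzl : ∀ c, (U c).ι ≫ zl = (g c).left := fun c => 𝒰.ι_glueMorphisms _ hg c
    let z : T ⟶ G := Over.homMk zl (𝒰.hom_ext _ _ fun c => by
      show (U c).ι ≫ zl ≫ G.hom = (U c).ι ≫ T.hom
      rw [← Category.assoc, hzl]
      exact Over.w (g c))
    refine ⟨z, ?_⟩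
    refine eq_of_ι U (fun x => TopologicalSpace.Opens.mem_iSup.1 (hU.iSup_eq_top.ge (Set.mem_univ x))) _ _ fun c => ?_
    rw [← gaFn_restrict (U c) (z ≫ i), ← Category.assoc,
      show (Over.homMk (U c).ι rfl : Over.mk ((U c).ι ≫ T.hom) ⟶ T) ≫ z = g c from Over.OverMorphism.ext (hzl c),
      hval, Equiv.apply_symm_apply]
    have h3 := congrArg (U c).ι.appTop (idem_mul_sub p (hchar T ⊤) hd c)
    rw [map_mul, map_zero, map_sub, map_natCast] at h3
    exact (sub_eq_zero.1 ((isUnit_ι_basicOpen (idem p d c)).mul_right_eq_zero.1 h3)).symm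
  haveI hv := isMonHom_v p hF hp0
  refine ⟨inferInstance, hv, hiv, ?_, ?_⟩
  · have hmid : (Red.Ga S ◁ i) ≫ μ[Red.Ga S] = fst _ _ * (snd _ _ ≫ i) := by
      rw [MonObj.mul_eq_mul, MonObj.comp_mul, whiskerLeft_fst, whiskerLeft_snd]
    have hw : fst _ _ ≫ (𝟙 (Red.Ga S) * F⁻¹) = ((Red.Ga S ◁ i) ≫ μ[Red.Ga S]) ≫ (𝟙 (Red.Ga S) * F⁻¹) := by
      refine GaPts.gaFn_injective ?_
      show Red.gaFn (_ ≫ _) = Red.gaFn (_ ≫ _)
      rw [hmid, gaFn_v p hF, gaFn_v p hF, GaPts.gaFn_mul, add_pow_p p (hchar _ ⊤), hker]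
      ring
    refine IsPullback.of_isLimit' ⟨hw⟩ (PullbackCone.isLimitAux' _ fun s => ?_)
    have hab := congrArg Red.gaFn s.condition
    rw [gaFn_v p hF, gaFn_v p hF] at hab
    have hd : (Red.gaFn s.snd - Red.gaFn s.fst) ^ p = Red.gaFn s.snd - Red.gaFn s.fst := by
      rw [sub_pow_p p (hchar _ ⊤)]
      linear_combination hab
    have hz := (hexi _ hd).choose_spec
    suffices key : ∀ m : s.pt ⟶ Red.Ga S ⊗ G, m ≫ fst _ _ = s.fst →
        m ≫ ((Red.Ga S ◁ i) ≫ μ[Red.Ga S]) = s.snd → m = lift s.fst (hexi _ hd).choose from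
      ⟨lift s.fst (hexi _ hd).choose, lift_fst _ _, by
        refine GaPts.gaFn_injective ?_
        show Red.gaFn (lift s.fst (hexi _ hd).choose ≫ ((Red.Ga S ◁ i) ≫ μ[Red.Ga S])) = Red.gaFn s.snd
        rw [hmid, MonObj.comp_mul, lift_fst, ← Category.assoc, lift_snd, GaPts.gaFn_mul, hz]
        ring, fun {m} h1 h2 => key m h1 h2⟩
    intro m h1 h2
    refine CartesianMonoidalCategory.hom_ext _ _ (by rw [lift_fst]; exact h1) ?_
    rw [lift_snd]
    refine huniq _ _ ?_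
    rw [hz]
    rw [hmid, MonObj.comp_mul, h1] at h2
    have h3 := congrArg Red.gaFn h2
    rw [GaPts.gaFn_mul, ← Category.assoc] at h3
    linear_combination h3
  · obtain ⟨h1, h2, h3⟩ := props_v p hF hp0
    refine ⟨Presieve.singleton (𝟙 (Red.Ga S) * F⁻¹ : Red.Ga S ⟶ Red.Ga S).left,
      Scheme.Hom.singleton_mem_fpqcPrecoverage _, ?_⟩
    rintro S' f ⟨⟩
    exact ⟨𝟙 _, Category.id_comp _⟩

end ASExactLib

namespace ASExactLib

variable (p : ℕ) [hp : Fact p.Prime] {S : Scheme.{u}}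

/-- The Artin-Schreier sequence with the constant group on `Multiplicative (ZMod p)`. -/
theorem isExactSeq_constGrp (hp0 : (p : Γ(S, ⊤)) = 0) (F : Red.Ga S ⟶ Red.Ga S)
    (hF : ∀ (T : Over S) (x : T ⟶ Red.Ga S), Red.gaFn (x ≫ F) = Red.gaFn x ^ p)
    {G : Over S} [GrpObj G] (e : G ≅ TwC.const S (Multiplicative (ZMod p)))
    (he : TwC.IsConstGrp (Multiplicative (ZMod p)) G e) (i : G ⟶ Red.Ga S) [IsMonHom i]
    (hi : Red.gaFn (TwC.pt S (Multiplicative (ZMod p)) (Multiplicative.ofAdd 1) ≫ e.inv ≫ i) = 1) :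
    NonAbH1.IsExactSeq Scheme.fpqcPrecoverage i (𝟙 (Red.Ga S) * F⁻¹) := by
  haveI : NeZero p := ⟨hp.out.ne_zero⟩
  let cu : TwC.const S (Multiplicative (ZMod p)) ≅ TwC.const S (ULift.{u} (Multiplicative (ZMod p))) :=
    { hom := TwC.constMap S ULift.up
      inv := TwC.constMap S ULift.down
      hom_inv_id := Over.OverMorphism.ext (Sigma.hom_ext _ _ fun m => by simp [TwC.constMap])
      inv_hom_id := Over.OverMorphism.ext (Sigma.hom_ext _ _ fun m => by simp [TwC.constMap]) }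
  let P : Multiplicative (ZMod p) → (𝟙_ (Over S) ⟶ G) := fun m => TwC.pt S _ m ≫ e.inv
  have hmul : ∀ a b, Red.gaFn (P (a * b) ≫ i) = Red.gaFn (P a ≫ i) + Red.gaFn (P b ≫ i) := fun a b => by
    have h := congrArg (· ≫ i) (he a b)
    simp only [MonObj.mul_comp] at h
    rw [← GaPts.gaFn_mul]
    exact congrArg Red.gaFn h.symm
  have hone : Red.gaFn (P 1 ≫ i) = 0 := by
    have := hmul 1 1
    rw [_root_.mul_one] at this
    exact left_eq_add.1 this
  have hnat : ∀ k : ℕ, Red.gaFn (P (Multiplicative.ofAdd (k : ZMod p)) ≫ i) = (k : Γ((𝟙_ (Over S)).left, ⊤)) := fun k => by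
    induction k with
    | zero => simpa using hone
    | succ k ih =>
      rw [Nat.cast_succ, Nat.cast_succ, ofAdd_add, hmul, ih]
      congr 1
  refine isExactSeq_fpqc p (e ≪≫ cu) hp0 hF (Equiv.ulift.trans Multiplicative.toAdd) i fun m => ?_
  have hp1 : ExtDescLib.piece (e ≪≫ cu) m = P m.down := by
    show TwC.pt S _ m ≫ cu.inv ≫ e.inv = TwC.pt S _ m.down ≫ e.inv
    rw [← Category.assoc, show TwC.pt S _ m ≫ cu.inv = TwC.pt S (Multiplicative (ZMod p)) m.down from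
      Over.OverMorphism.ext (by simp [cu, TwC.constMap, TwC.pt])]
  have := hnat (Multiplicative.toAdd m.down).val
  rw [ZMod.natCast_zmod_val, ofAdd_toAdd] at this
  rw [hp1]
  exact this

end ASExactLib
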